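import Groth.Agent.EtFieldTors.FieldDeg
import Mathlib.FieldTheory.IsSepClosed

/-!
# Transfer relative to an intermediate finite separable extension
-/

noncomputable section

set_option autoImplicit false
set_option backward.isDefEq.respectTransparency.types false

universe u

open CategoryTheory CategoryTheory.Limits AlgebraicGeometry Opposite

namespace Groth.Agent.EtFieldTors

open EtSh

variable (K L M : Type u) [Field K] [Field L] [Field M] [Algebra K L] [Algebra L M] [Algebra K M]
    [IsScalarTower K L M] [FiniteDimensional K L] [FiniteDimensional K M]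
    [Algebra.IsSeparable K L] [Algebra.IsSeparable K M]

/-- a class killed on `M` is killed on `L` by `[M : L]` -/
theorem finrank_nsmul_Hpull_eq_zero (F : EtCoh.Ab (Spec (CommRingCat.of K))) (m : ℕ)
    (α : EtCoh.H (Spec (CommRingCat.of K)) F (m + 1))
    [PreservesFiniteLimits (EtCoh.pull (Spec.map (CommRingCat.ofHom (algebraMap K L))))]
    [PreservesFiniteLimits (EtCoh.pull (Spec.map (CommRingCat.ofHom (algebraMap K M))))]
    (hα : EtCore.Hpull (Spec.map (CommRingCat.ofHom (algebraMap K M))) F (m + 1) α = 0) :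
    Module.finrank L M • EtCore.Hpull (Spec.map (CommRingCat.ofHom (algebraMap K L))) F (m + 1) α = 0 := by
  haveI := etale_spec_finSep K L
  haveI := etale_spec_finSep K M
  let f := Spec.map (CommRingCat.ofHom (algebraMap K L))
  let f' := Spec.map (CommRingCat.ofHom (algebraMap K M))
  let g := Spec.map (CommRingCat.ofHom (algebraMap L M))
  have hg : g ≫ f = f' := by
    rw [← Spec.map_comp, ← CommRingCat.ofHom_comp, ← IsScalarTower.algebraMap_eq]
  haveI : EtShriek.JCont f := EtSh.jCont_hom (Scheme.Etale.mk f)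
  haveI : EtShriek.JCont f' := EtSh.jCont_hom (Scheme.Etale.mk f')
  haveI : Subsingleton (Spec (CommRingCat.of K)) := inferInstanceAs (Subsingleton (PrimeSpectrum K))
  haveI : Subsingleton (Spec (CommRingCat.of L)) := inferInstanceAs (Subsingleton (PrimeSpectrum L))
  haveI : Nonempty (Spec (CommRingCat.of M)) := inferInstanceAs (Nonempty (PrimeSpectrum M))
  haveI : Algebra.IsSeparable L M := Algebra.isSeparable_tower_top_of_isSeparable K L M
  haveI : FiniteDimensional L M := FiniteDimensional.right K L M
  let Ω := AlgebraicClosure L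
  let ξ := Spec.map (CommRingCat.ofHom (algebraMap K Ω))
  let W := (EtShriek.compEtale f).obj (EtCoh.top (Spec (CommRingCat.of L)))
  let W' := (EtShriek.compEtale f').obj (EtCoh.top (Spec (CommRingCat.of M)))
  have hW : W.hom = f := Category.id_comp f
  have hW' : W'.hom = f' := Category.id_comp f'
  let h : W' ⟶ W := MorphismProperty.Over.homMk g ((congrArg (g ≫ ·) hW).trans (hg.trans hW'.symm))
  let t : Fib ξ W := Over.homMk (Spec.map (CommRingCat.ofHom (algebraMap L Ω))) (by
    show Spec.map (CommRingCat.ofHom (algebraMap L Ω)) ≫ W.hom = ξ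
    rw [hW, ← Spec.map_comp, ← CommRingCat.ofHom_comp, ← IsScalarTower.algebraMap_eq])
  refine nsmul_Hpull_eq_zero_of_Hpull (ξ := ξ) f f' h t (Module.finrank L M) ?_ m F α hα
  let Φ : (M →ₐ[L] Ω) → {w : Fib ξ W' // (Scheme.pointSmallEtale ξ).fiber.map h w = t} := fun φ =>
    ⟨Over.homMk (Spec.map (CommRingCat.ofHom φ.toRingHom)) (by
      show Spec.map (CommRingCat.ofHom φ.toRingHom) ≫ W'.hom = ξ
      rw [hW', ← Spec.map_comp, ← CommRingCat.ofHom_comp]
      refine congrArg (fun r => Spec.map (CommRingCat.ofHom r)) ?_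
      exact RingHom.ext fun x => (congrArg φ (IsScalarTower.algebraMap_apply K L M x)).trans
        ((φ.commutes _).trans (IsScalarTower.algebraMap_apply K L Ω x).symm)),
      Over.OverMorphism.ext (by
        show Spec.map (CommRingCat.ofHom φ.toRingHom) ≫ g = Spec.map (CommRingCat.ofHom (algebraMap L Ω))
        rw [← Spec.map_comp, ← CommRingCat.ofHom_comp]
        exact congrArg (fun r => Spec.map (CommRingCat.ofHom r)) φ.comp_algebraMap)⟩
  have hΦ : Function.Bijective Φ := by
    refine ⟨fun φ ψ e => AlgHom.coe_ringHom_injective ?_, fun w => ?_⟩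
    · have e' : Spec.map (CommRingCat.ofHom φ.toRingHom) = Spec.map (CommRingCat.ofHom ψ.toRingHom) :=
        congrArg (fun k => k.1.left) e
      exact congrArg CommRingCat.Hom.hom (Spec.map_injective e')
    · obtain ⟨r, hr⟩ : ∃ r : CommRingCat.of M ⟶ CommRingCat.of Ω, Spec.map r = w.1.left :=
        ⟨Spec.preimage _, Spec.map_preimage _⟩
      have hc : CommRingCat.ofHom (algebraMap L M) ≫ r = CommRingCat.ofHom (algebraMap L Ω) := by
        apply Spec.map_injective
        rw [Spec.map_comp, hr]
        exact congrArg (fun k => k.left) w.2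
      exact ⟨⟨r.hom, fun x => congrArg (fun k => CommRingCat.Hom.hom k x) hc⟩, Subtype.ext (Over.OverMorphism.ext hr)⟩
  rw [← Nat.card_congr (Equiv.ofBijective Φ hΦ), Nat.card_eq_fintype_card, AlgHom.card]

/-- a class killed on `L` is killed on `M` -/
theorem Hpull_eq_zero_of_tower (F : EtCoh.Ab (Spec (CommRingCat.of K))) (m : ℕ)
    (α : EtCoh.H (Spec (CommRingCat.of K)) F (m + 1))
    [PreservesFiniteLimits (EtCoh.pull (Spec.map (CommRingCat.ofHom (algebraMap K L))))]
    [PreservesFiniteLimits (EtCoh.pull (Spec.map (CommRingCat.ofHom (algebraMap K M))))]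
    (hα : EtCore.Hpull (Spec.map (CommRingCat.ofHom (algebraMap K L))) F (m + 1) α = 0) :
    EtCore.Hpull (Spec.map (CommRingCat.ofHom (algebraMap K M))) F (m + 1) α = 0 := by
  haveI := etale_spec_finSep K L
  haveI := etale_spec_finSep K M
  let f := Spec.map (CommRingCat.ofHom (algebraMap K L))
  let f' := Spec.map (CommRingCat.ofHom (algebraMap K M))
  let g := Spec.map (CommRingCat.ofHom (algebraMap L M))
  have hg : g ≫ f = f' := by
    rw [← Spec.map_comp, ← CommRingCat.ofHom_comp, ← IsScalarTower.algebraMap_eq]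
  haveI : EtShriek.JCont f := EtSh.jCont_hom (Scheme.Etale.mk f)
  haveI : EtShriek.JCont f' := EtSh.jCont_hom (Scheme.Etale.mk f')
  exact Hpull_eq_zero_of_hom f' f (MorphismProperty.Over.homMk g
    ((congrArg (g ≫ ·) (Category.id_comp f)).trans (hg.trans (Category.id_comp f').symm))) m F α hα

end Groth.Agent.EtFieldTors
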